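import Groth.Prelude.Def_ExtPow2
import Groth.Prelude.Def_RefHull
import Groth.Agent.InvX.Tensor
import Groth.Agent.H23.Frame
import Groth.Agent.Lib.CurveTensor
import Groth.Agent.KFlatLib.Scheme.ExtZero
import Mathlib.LinearAlgebra.Alternating.Uncurry.Fin
import Mathlib.LinearAlgebra.Determinant

/-!
Wedges of global sections of a locally free module, and generation at the generic point.
-/

set_option linter.style.haveILetI false
set_option backward.isDefEq.respectTransparency false
set_option backward.isDefEq.respectTransparency.types false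
set_option autoImplicit false

universe u

open CategoryTheory CategoryTheory.Limits AlgebraicGeometry TopologicalSpace Opposite
open scoped TensorProduct

namespace Groth.Agent.GGen

open Groth.Agent Groth.Agent.AModX

/-- Alternating maps in more variables than the rank vanish. -/
theorem alternating_eq_zero {R M N : Type u} [CommRing R] [AddCommGroup M] [Module R M] [AddCommGroup N]
    [Module R N] {r : ℕ} (b : Module.Basis (Fin r) R M) (F : M [⋀^Fin (r + 1)]→ₗ[R] N) : F = 0 :=
  Module.Basis.ext_alternating b fun v hv =>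
    absurd (Fintype.card_le_of_injective v hv) (by simp)

variable {X : Scheme.{u}} {E D : X.Modules} {r : ℕ}

/-- The tensor of sections, bilinearly. -/
noncomputable def tmulLin (E D : X.Modules) (U : X.Opens) :
    Γ(E, U) →ₗ[Γ(X, U)] Γ(D, U) →ₗ[Γ(X, U)] Γ(CohB1.tensorMod E D, U) :=
  LinearMap.mk₂ Γ(X, U) InvX.tmul
    (fun a a' b => (congrArg _ (KFlatLib.tm_add_left a a' b)).trans (map_add _ _ _))
    (fun c a b => InvX.tmul_smul_left c a b)
    (fun a b b' => (congrArg _ (KFlatLib.tm_add_right a b b')).trans (map_add _ _ _))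
    (fun c a b => InvX.tmul_smul_right c a b)

/-- A frame gives bases of sections over smaller opens. -/
theorem exists_basis_sections (hE : FlatMod.IsFinLocFreeOfRank r E) (x : X) :
    ∃ V : X.affineOpens, x ∈ V.1 ∧ Nonempty (Module.Basis (Fin r) Γ(X, V.1) Γ(E, V.1)) := by
  obtain ⟨U, hxU, ⟨e⟩⟩ := hE x
  obtain ⟨s, hs⟩ := H23.Frame.exists_frame e
  obtain ⟨_, ⟨V, hV, rfl⟩, hxV, hle⟩ := X.isBasis_affineOpens.exists_subset_of_mem_open hxU U.2
  let l : (Fin r → Γ(X, V)) →ₗ[Γ(X, V)] Γ(E, V) :=
    Fintype.linearCombination Γ(X, V) fun i => E.presheaf.map (homOfLE hle).op (s i)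
  exact ⟨⟨V, hV⟩, hxV, ⟨(Module.Basis.ofEquivFun (LinearEquiv.ofBijective l (hs V hle)).symm)⟩⟩

variable (hD : ExtPow.IsExtPow r E D)
include hD

/-- The wedge over an affine open. -/
noncomputable def wedge (U : X.affineOpens) : Γ(E, U.1) [⋀^Fin r]→ₗ[Γ(X, U.1)] Γ(D, U.1) :=
  (hD.choose U).symm.toLinearMap.compAlternatingMap (exteriorPower.ιMulti _ r)

theorem res_wedge (U V : X.affineOpens) (h : V.1 ≤ U.1) (e : Fin r → Γ(E, U.1)) :
    res D h (wedge hD U e) = wedge hD V fun j => res E h (e j) :=
  hD.choose_spec U V h e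

theorem wedge_ne_zero (U : X.affineOpens) (e : Fin r → Γ(E, U.1)) {N : Type u} [AddCommGroup N]
    [Module Γ(X, U.1) N] (F : Γ(E, U.1) [⋀^Fin r]→ₗ[Γ(X, U.1)] N) (hF : F e ≠ 0) : wedge hD U e ≠ 0 := by
  intro h0
  have h1 : exteriorPower.ιMulti Γ(X, U.1) r e = 0 := (hD.choose U).symm.map_eq_zero_iff.1 h0
  exact hF (by rw [← exteriorPower.alternatingMapLinearEquiv_apply_ιMulti F, h1, map_zero])

/-- The wedge of global sections. -/
theorem exists_wedge (e : Fin r → Γ(E, ⊤)) :
    ∃ d : Γ(D, ⊤), ∀ U : X.affineOpens, res D le_top d = wedge hD U fun j => res E le_top (e j) := by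
  obtain ⟨d, hd, -⟩ := existsUnique_glue (M := D) (V := ⊤) (fun U : X.affineOpens => U.1) (fun _ => le_top)
    (fun p _ => by
      obtain ⟨_, ⟨V, hV, rfl⟩, hpV, -⟩ :=
        X.isBasis_affineOpens.exists_subset_of_mem_open (Set.mem_univ p) isOpen_univ
      exact ⟨⟨V, hV⟩, hpV⟩)
    (fun U => wedge hD U fun j => res E le_top (e j))
    (fun U V => eq_of_locally _ _ fun p hp => by
      obtain ⟨_, ⟨W, hW, rfl⟩, hpW, hle⟩ :=
        X.isBasis_affineOpens.exists_subset_of_mem_open hp (U.1 ⊓ V.1).2
      refine ⟨W, hle, hpW, ?_⟩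
      rw [res_res, res_res, res_wedge hD U ⟨W, hW⟩ (fun y hy => (hle hy).1),
        res_wedge hD V ⟨W, hW⟩ (fun y hy => (hle hy).2)]
      simp only [res_res])
  exact ⟨d, hd⟩

/-- The expansion of `r + 1` sections along their minors vanishes. -/
theorem sum_tmul_eq_zero (hE : FlatMod.IsFinLocFreeOfRank r E) (s : Fin (r + 1) → Γ(E, ⊤))
    (d : Fin (r + 1) → Γ(D, ⊤))
    (hd : ∀ (i) (U : X.affineOpens), res D le_top (d i) = wedge hD U fun j => res E le_top (Fin.removeNth i s j)) :
    (∑ i : Fin (r + 1), (-1 : ℤ) ^ (i : ℕ) • InvX.tmul (s i) (d i)) = 0 := by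
  refine eq_of_locally _ _ fun p _ => ?_
  obtain ⟨V, hpV, ⟨b⟩⟩ := exists_basis_sections hE p
  refine ⟨V.1, le_top, hpV, ?_⟩
  let g : Γ(E, V.1) →ₗ[Γ(X, V.1)] Γ(E, V.1) [⋀^Fin r]→ₗ[Γ(X, V.1)] Γ(CohB1.tensorMod E D, V.1) :=
    { toFun := fun m => (tmulLin E D V.1 m).compAlternatingMap (wedge hD V)
      map_add' := fun m m' => AlternatingMap.ext fun v => by simp
      map_smul' := fun c m => AlternatingMap.ext fun v => by simp }
  have h := DFunLike.congr_fun (alternating_eq_zero b (AlternatingMap.alternatizeUncurryFin g))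
    (fun i => res E le_top (s i))
  rw [AlternatingMap.alternatizeUncurryFin_apply] at h
  rw [map_sum, map_zero]
  refine Eq.trans (Finset.sum_congr rfl fun i _ => ?_) h
  rw [map_zsmul, InvX.res_tmul, hd]
  rfl

omit hD

/-- An epimorphism near the generic point from a free module gives a generating family there. -/
theorem exists_generic_basis [IsIntegral X] (hE : FlatMod.IsFinLocFreeOfRank r E)
    (hgen : ∃ (U : X.Opens) (J : Type u) (s : J → (Coh.structureModule X ⟶ E)),
      (U : Set ↥X).Nonempty ∧ Epi ((Scheme.Modules.restrictFunctor U.ι).map (Sigma.desc s))) :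
    ∃ (g : Fin r → Γ(E, ⊤)) (b : Module.Basis (Fin r) (X.presheaf.stalk (genericPoint X))
        (E.presheaf.stalk (genericPoint X))),
      ∀ i, b i = E.presheaf.germ ⊤ (genericPoint X) trivial (g i) := by
  classical
  obtain ⟨U, J, s, hU, hepi⟩ := hgen
  set η := genericPoint X
  have hηU : η ∈ U := (genericPoint_spec X).mem_open_set_iff U.2 |>.2 (by simpa using hU)
  haveI := hepi
  let K := X.presheaf.stalk η
  letI : Field K := inferInstanceAs (Field X.functionField)
  let σ : J → E.presheaf.stalk η := fun j =>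
    E.presheaf.germ ⊤ η trivial ((s j).app ⊤ (H23.Frame.one ⊤))
  let S : Submodule K (E.presheaf.stalk η) := Submodule.span K (Set.range σ)
  let F := DerSch.stalkFunctor X η
  have hsurj : Function.Surjective (F.map (Sigma.desc s)) :=
    KFlatLib.surjective_stalk_of_restrict U.ι (Sigma.desc s) ⟨η, hηU⟩
      ((ModuleCat.epi_iff_surjective _).1 inferInstance)
  have hS : S = ⊤ := by
    let π : F.obj E ⟶ ModuleCat.of K ((E.presheaf.stalk η) ⧸ S) := ModuleCat.ofHom S.mkQ
    have h0 : F.map (Sigma.desc s) ≫ π = 0 := by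
      refine (isColimitOfPreserves F (coproductIsCoproduct fun _ : J => Coh.structureModule X)).hom_ext
        fun ⟨j⟩ => ?_
      rw [comp_zero]
      change F.map (Sigma.ι (fun _ : J => Coh.structureModule X) j) ≫ F.map (Sigma.desc s) ≫ π = 0
      rw [← Category.assoc, ← Functor.map_comp, Sigma.ι_desc]
      refine ModuleCat.hom_ext (LinearMap.ext fun z => ?_)
      obtain ⟨W, hW, a, rfl⟩ :=
        TopCat.Presheaf.exists_germ_eq (C := AddCommGrpCat.{u}) (Coh.structureModule X).presheaf (x := η) z
      change S.mkQ (RefHull.stalkMapₗ (s j) η ((Coh.structureModule X).presheaf.germ W η hW a)) = 0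
      rw [Submodule.mkQ_apply, Submodule.Quotient.mk_eq_zero, RefHull.stalkMapₗ_germ]
      have e : ∀ c : Γ(X, W), (s j).app W (c : Γ(Coh.structureModule X, W)) =
          c • res E le_top ((s j).app ⊤ (H23.Frame.one ⊤)) := fun c =>
        (H23.Frame.app_eq_smul (s j) W c).trans
          (congrArg (c • ·) (H23.Frame.app_one_res (s j) (le_top (a := W))).symm)
      erw [e a, QCoh.germ_smul']
      refine S.smul_mem _ ?_
      rw [InvX.germ_res']
      exact Submodule.subset_span ⟨j, rfl⟩
    refine eq_top_iff.2 fun v _ => ?_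
    obtain ⟨z, rfl⟩ := hsurj v
    exact (Submodule.Quotient.mk_eq_zero S).1 (ConcreteCategory.congr_hom h0 z)
  obtain ⟨b₀⟩ := CurveTensor.exists_basis_stalk hE η
  obtain ⟨t, hts, htsp, htli⟩ := exists_linearIndependent K (Set.range σ)
  rw [show Submodule.span K (Set.range σ) = ⊤ from hS] at htsp
  let b₁ : Module.Basis t K (E.presheaf.stalk η) := Module.Basis.mk htli (by
    rw [Subtype.range_coe_subtype, Set.ofPred_mem_eq, htsp])
  let e : t ≃ Fin r := b₁.indexEquiv b₀
  let b := b₁.reindex e
  have hb : ∀ i, ∃ j, σ j = b i := fun i => by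
    rw [Module.Basis.reindex_apply, Module.Basis.mk_apply]
    exact hts (e.symm i).2
  choose j hj using hb
  exact ⟨fun i => (s (j i)).app ⊤ (H23.Frame.one ⊤), b, fun i => (hj i).symm⟩

/-- Germs that form a basis at the generic point have nonzero wedge. -/
theorem wedge_basis_ne_zero [IsIntegral X] (hD : ExtPow.IsExtPow r E D) (V : X.affineOpens)
    (hV : genericPoint X ∈ V.1) (g : Fin r → Γ(E, ⊤))
    (b : Module.Basis (Fin r) (X.presheaf.stalk (genericPoint X)) (E.presheaf.stalk (genericPoint X)))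
    (hb : ∀ i, b i = E.presheaf.germ ⊤ (genericPoint X) trivial (g i)) :
    wedge hD V (fun j => res E le_top (g j)) ≠ 0 := by
  let η := genericPoint X
  letI : Algebra Γ(X, V.1) (X.presheaf.stalk η) := (X.presheaf.germ V.1 η hV).hom.toAlgebra
  letI : Module Γ(X, V.1) (E.presheaf.stalk η) :=
    Module.compHom _ (algebraMap Γ(X, V.1) (X.presheaf.stalk η))
  haveI : IsScalarTower Γ(X, V.1) (X.presheaf.stalk η) (E.presheaf.stalk η) :=
    IsScalarTower.of_algebraMap_smul fun _ _ => rfl
  let γ : Γ(E, V.1) →ₗ[Γ(X, V.1)] E.presheaf.stalk η :=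
    { toFun := fun m => E.presheaf.germ V.1 η hV m
      map_add' := fun m m' => map_add (E.presheaf.germ V.1 η hV).hom m m'
      map_smul' := fun c m => QCoh.germ_smul' E hV c m }
  let F : Γ(E, V.1) [⋀^Fin r]→ₗ[Γ(X, V.1)] X.presheaf.stalk η :=
    { toFun := fun v => b.det fun i => γ (v i)
      map_update_add' := fun v i x y => by
        simp only [Function.apply_update (fun _ => γ), map_add, AlternatingMap.map_update_add]
      map_update_smul' := fun v i c x => by
        simp only [Function.apply_update (fun _ => γ), map_smul]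
        rw [← algebraMap_smul (X.presheaf.stalk η) c (γ x), AlternatingMap.map_update_smul, algebraMap_smul]
      map_eq_zero_of_eq' := fun v i j h hij => AlternatingMap.map_eq_zero_of_eq _ _ (congrArg γ h) hij }
  refine wedge_ne_zero hD V _ F ?_
  change b.det (fun i => γ (res E le_top (g i))) ≠ 0
  have : (fun i => γ (res E le_top (g i))) = ⇑b := funext fun i =>
    (InvX.germ_res' (le_top : V.1 ≤ ⊤) hV (g i)).trans (hb i).symm
  rw [this, b.det_self]
  exact one_ne_zero

end Groth.Agent.GGen
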